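import Groth.Agent.S10104
import Groth.Agent.S9877
import Groth.Agent.S9881
import Groth.Agent.H49.AlgSpCoprod2
import Groth.Agent.H49.AlgSpPoints
import Groth.Agent.H50.LocPBase
import Groth.Agent.H50.Quot
import Groth.Agent.H64.Boot2.Cancel
import Groth.Agent.H64.Psh.QCompact

/-!
# Being an algebraic space is fppf local on a scheme base

`isAlgSpace_of_fppf_cover_schemes`: a sheaf `F ⟶ h_U` whose base changes along an fppf covering
`{U_i ⟶ U}` of schemes are algebraic spaces is an algebraic space.
-/

set_option autoImplicit false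
universe u
open CategoryTheory CategoryTheory.Limits AlgebraicGeometry Opposite

namespace Groth.Agent.H64.Boot6

open AlgSp

variable {S : Scheme.{u}}

/-- The map `h_v` of a flat, locally finitely presented, surjective morphism of schemes is
representable by algebraic spaces, surjective, flat and locally of finite presentation. -/
theorem repBySpWith_yon_map {V U : Over S} (v : V ⟶ U) (h1 : Surjective v.left) (h2 : Flat v.left)
    (h3 : LocallyOfFinitePresentation v.left) :
    RepBySpWith (IsSurjectiveMor ⊓ LocP @Flat ⊓ LocP @LocallyOfFinitePresentation)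
      ((yon S).map v).hom := by
  rw [repBySpWith_hom_iff]
  intro T ξ F' fst snd sq
  have hF' : IsAlgSpace F' :=
    Groth.Agent.H49.isAlgSpace_of_isPullback sq (IsAlgSpace.yon_obj U).diag (IsAlgSpace.yon_obj V)
      (IsAlgSpace.yon_obj T)
  refine ⟨hF', ⟨?_, ?_⟩, ?_⟩
  · exact Groth.Agent.H49.isSurjectiveMor_of_isPullback sq
      (Groth.Agent.H64.PTh.isSurjectiveMor_yon_map v)
  · exact Groth.Agent.H50.goodClass_flat.locP_of_isPullback (IsAlgSpace.yon_obj V)
      (IsAlgSpace.yon_obj U) (IsAlgSpace.yon_obj T) _ _ _ _ sq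
      (Groth.Agent.H50.goodClass_flat.locP_yon_map v h2)
  · exact Groth.Agent.H50.goodClass_lfp.locP_of_isPullback (IsAlgSpace.yon_obj V)
      (IsAlgSpace.yon_obj U) (IsAlgSpace.yon_obj T) _ _ _ _ sq
      (Groth.Agent.H50.goodClass_lfp.locP_yon_map v h3)

/-- **Being an algebraic space is fppf local on a scheme base.** -/
theorem isAlgSpace_of_fppf_cover_schemes {U : Over S} {ι : Type u} (Ui : ι → Over S)
    (u : ∀ i, Ui i ⟶ U) (hfl : ∀ i, Flat (u i).left)
    (hfp : ∀ i, LocallyOfFinitePresentation (u i).left)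
    (hsurj : ∀ x : ↥U.left, ∃ (i : ι) (y : ↥(Ui i).left), (u i).left y = x)
    (F : Sp S) (p : F ⟶ (yon S).obj U)
    (h : ∀ i, IsAlgSpace (pullback p ((yon S).map (u i)))) : IsAlgSpace F := by
  -- the coproduct of the covering
  let d : Cofan Ui := Cofan.mk (∐ Ui) (Sigma.ι Ui)
  have hd : IsColimit d := coproductIsCoproduct Ui
  let v : d.pt ⟶ U := Cofan.IsColimit.desc hd u
  have hv : ∀ i, d.inj i ≫ v = u i := fun i => Cofan.IsColimit.fac hd u i
  have hvl : ∀ i, (d.inj i).left ≫ v.left = (u i).left := fun i => by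
    rw [← Over.comp_left, hv]
  obtain ⟨e, he⟩ := Groth.Agent.H49.exists_sigma_iso hd
  have hev : e.hom ≫ v.left = Sigma.desc (fun i => (u i).left) := by
    apply Sigma.hom_ext
    intro i
    rw [reassoc_of% he i, hvl, Sigma.ι_desc]
  have hvleq : v.left = e.inv ≫ Sigma.desc (fun i => (u i).left) := by
    rw [← hev, Iso.inv_hom_id_assoc]
  have hvfl : Flat v.left := by
    rw [hvleq]
    have : Flat (Sigma.desc (fun i => (u i).left)) :=
      IsZariskiLocalAtSource.sigmaDesc (P := @Flat) hfl
    infer_instance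
  have hvfp : LocallyOfFinitePresentation v.left := by
    rw [hvleq]
    have : LocallyOfFinitePresentation (Sigma.desc (fun i => (u i).left)) :=
      IsZariskiLocalAtSource.sigmaDesc (P := @LocallyOfFinitePresentation) hfp
    infer_instance
  have hvs : Surjective v.left := by
    refine ⟨fun x => ?_⟩
    obtain ⟨i, y, hy⟩ := hsurj x
    refine ⟨(d.inj i).left y, ?_⟩
    rw [← Scheme.Hom.comp_apply, hvl, hy]
  -- the base change of `F` to the coproduct
  let F' : Sp S := pullback p ((yon S).map v)
  let Fi : ι → Sp S := fun i => pullback p ((yon S).map (u i))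
  have hw : ∀ i, pullback.fst p ((yon S).map (u i)) ≫ p =
      (pullback.snd p ((yon S).map (u i)) ≫ (yon S).map (d.inj i)) ≫ (yon S).map v := fun i => by
    rw [Category.assoc, ← Functor.map_comp, hv, pullback.condition]
  let f : ∀ i, Fi i ⟶ F' := fun i =>
    pullback.lift (pullback.fst p ((yon S).map (u i)))
      (pullback.snd p ((yon S).map (u i)) ≫ (yon S).map (d.inj i)) (hw i)
  have hf1 : ∀ i, f i ≫ pullback.fst p ((yon S).map v) = pullback.fst p ((yon S).map (u i)) :=
    fun i => pullback.lift_fst _ _ _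
  have hf2 : ∀ i, f i ≫ pullback.snd p ((yon S).map v) =
      pullback.snd p ((yon S).map (u i)) ≫ (yon S).map (d.inj i) := fun i => pullback.lift_snd _ _ _
  have sqi : ∀ i, IsPullback (f i) (pullback.snd p ((yon S).map (u i)))
      (pullback.snd p ((yon S).map v)) ((yon S).map (d.inj i)) := by
    intro i
    have big : IsPullback (f i ≫ pullback.fst p ((yon S).map v))
        (pullback.snd p ((yon S).map (u i))) p ((yon S).map (d.inj i) ≫ (yon S).map v) := by
      rw [hf1, ← Functor.map_comp, hv]
      exact IsPullback.of_hasPullback _ _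
    exact IsPullback.of_right big (hf2 i) (IsPullback.of_hasPullback p ((yon S).map v))
  have hopen : ∀ i, RepWith @IsOpenImmersion (f i) := by
    intro i
    have h1 : RepWith @IsOpenImmersion ((yon S).map (d.inj i)) :=
      (repWith_yon_map_iff @IsOpenImmersion (d.inj i)).2
        (Groth.Agent.H49.isOpenImmersion_inj_left hd i)
    exact MorphismProperty.of_isPullback (P := RepWith (S := S) @IsOpenImmersion) (sqi i).flip h1
  let c : Cofan Fi := Cofan.mk (∐ Fi) (Sigma.ι Fi)
  have hc : IsColimit c := coproductIsCoproduct Fi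
  have hcop : IsAlgSpace c.pt := Groth.Agent.S9881.result S Fi h c hc
  have hepi : Epi (Cofan.IsColimit.desc hc f) := by
    apply Groth.Agent.H50.epi_of_exists_local_lift
    intro T x
    obtain ⟨b, hb⟩ := (yon S).map_surjective (x ≫ pullback.snd p ((yon S).map v))
    refine ⟨Groth.Agent.H49.factorSieve d b, Groth.Agent.H49.factorSieve_mem hd b, ?_⟩
    rintro T' g ⟨i, y, hy⟩
    have hcomm : ((yon S).map g ≫ x) ≫ pullback.snd p ((yon S).map v) =
        (yon S).map y ≫ (yon S).map (d.inj i) := by
      rw [Category.assoc, ← hb, ← Functor.map_comp, ← Functor.map_comp, hy]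
    refine ⟨(sqi i).lift ((yon S).map g ≫ x) ((yon S).map y) hcomm ≫ c.inj i, ?_⟩
    rw [Category.assoc, Cofan.IsColimit.fac, (sqi i).lift_fst]
  have hls : Sheaf.IsLocallySurjective (Cofan.IsColimit.desc hc f) :=
    (Sheaf.isLocallySurjective_iff_epi _).2 hepi
  have hF' : IsAlgSpace F' := Groth.Agent.S9877.result S F' Fi f h hopen c hc hls hcop
  -- the bootstrap theorem
  have hp' : RepBySpWith (IsSurjectiveMor ⊓ LocP @Flat ⊓ LocP @LocallyOfFinitePresentation)
      (pullback.fst p ((yon S).map v)).hom :=
    Groth.Agent.H64.Boot2.repBySpWith_of_isPullback _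
      (IsPullback.of_hasPullback p ((yon S).map v)).flip (repBySpWith_yon_map v hvs hvfl hvfp)
  exact Groth.Agent.S10104.result S F ⟨F', hF'⟩ (pullback.fst p ((yon S).map v)) hp'

end Groth.Agent.H64.Boot6
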