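import Groth.Prelude.Def_AlgSpGpd
import Mathlib.CategoryTheory.Monoidal.Cartesian.Grp

/-!
# The action groupoid of a free action of a group sheaf is an equivalence relation
-/

set_option autoImplicit false
universe u
open CategoryTheory CategoryTheory.Limits AlgebraicGeometry Opposite MonoidalCategory
  CartesianMonoidalCategory MonObj

namespace Groth.Agent.H64.Boot6

open AlgSp

variable {S : Scheme.{u}} {B : Sp S} {G X : Over B} [GrpObj G] (a : GAction G X)

/-- The action on points. -/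
noncomputable def smul {T : Over B} (g : T ⟶ G) (x : T ⟶ X) : T ⟶ X := lift g x ≫ a.act

theorem one_smul' {T : Over B} (x : T ⟶ X) : smul a (1 : T ⟶ G) x = x := by
  have h : lift (1 : T ⟶ G) x = lift (toUnit T) x ≫ (η[G] ▷ X) := by
    apply CartesianMonoidalCategory.hom_ext <;> simp [Hom.one_def]
  rw [smul, h, Category.assoc, a.one_act]
  simp

theorem mul_smul' {T : Over B} (g h : T ⟶ G) (x : T ⟶ X) :
    smul a (g * h) x = smul a g (smul a h x) := by
  have h1 : lift (g * h) x = lift (lift g h) x ≫ (μ[G] ▷ X) := by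
    apply CartesianMonoidalCategory.hom_ext <;> simp [Hom.mul_def]
  have h2 : lift g (lift h x ≫ a.act) = lift (lift g h) x ≫ (α_ G G X).hom ≫ (G ◁ a.act) := by
    apply CartesianMonoidalCategory.hom_ext <;> simp
  rw [smul, smul, smul, h1, h2, Category.assoc, a.mul_act]
  simp only [Category.assoc]

theorem comp_smul {T T' : Over B} (f : T' ⟶ T) (g : T ⟶ G) (x : T ⟶ X) :
    f ≫ smul a g x = smul a (f ≫ g) (f ≫ x) := by
  rw [smul, smul, ← Category.assoc]
  congr 1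
  apply CartesianMonoidalCategory.hom_ext <;> simp

omit [GrpObj G] in
theorem eq_lift {T : Over B} (r : T ⟶ G ⊗ X) : r = lift (r ≫ fst G X) (r ≫ snd G X) := by
  apply CartesianMonoidalCategory.hom_ext <;> simp

theorem comp_act_eq_smul {T : Over B} (r : T ⟶ G ⊗ X) :
    r ≫ a.act = smul a (r ≫ fst G X) (r ≫ snd G X) := by
  rw [smul, ← eq_lift]

theorem inv_smul_smul' {T : Over B} (g : T ⟶ G) (x : T ⟶ X) : smul a g⁻¹ (smul a g x) = x := by
  rw [← mul_smul', inv_mul_cancel, one_smul']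

/-- The shear involution `(g, x) ↦ (g⁻¹, g x)`. -/
noncomputable def shear : G ⊗ X ⟶ G ⊗ X := lift (fst G X)⁻¹ a.act

theorem shear_snd : shear a ≫ snd G X = a.act := lift_snd _ _

theorem shear_fst : shear a ≫ fst G X = (fst G X)⁻¹ := lift_fst _ _

theorem shear_act : shear a ≫ a.act = snd G X := by
  rw [comp_act_eq_smul, shear_fst, shear_snd]
  have h : a.act = smul a (fst G X) (snd G X) := by
    rw [smul]
    have : lift (fst G X) (snd G X) = 𝟙 (G ⊗ X) := by
      apply CartesianMonoidalCategory.hom_ext <;> simp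
    rw [this, Category.id_comp]
  rw [h, inv_smul_smul']

theorem shear_shear : shear a ≫ shear a = 𝟙 (G ⊗ X) := by
  apply CartesianMonoidalCategory.hom_ext
  · rw [Category.assoc, shear_fst, Hom.inv_def, ← Category.assoc, shear_fst, Hom.inv_def,
      Category.assoc, Category.id_comp]
    simp
  · rw [Category.assoc, shear_snd, shear_act, Category.id_comp]

instance : IsIso (shear a) := ⟨shear a, shear_shear a, shear_shear a⟩

/-- Injectivity of `(g, x) ↦ (g x, x)` on points, for a free action. -/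
theorem eq_of_free (ha : a.IsFree) {T : Over S} (β : (yon S).obj T ⟶ B)
    (r₁ r₂ : Over.mk β ⟶ G ⊗ X) (h1 : r₁ ≫ a.act = r₂ ≫ a.act)
    (h2 : r₁ ≫ snd G X = r₂ ≫ snd G X) : r₁ = r₂ := by
  rw [comp_act_eq_smul, comp_act_eq_smul, ← h2] at h1
  have h3 : smul a ((r₂ ≫ fst G X)⁻¹ * (r₁ ≫ fst G X)) (r₁ ≫ snd G X) = r₁ ≫ snd G X := by
    rw [mul_smul', h1, inv_smul_smul']
  have h4 : (r₂ ≫ fst G X)⁻¹ * (r₁ ≫ fst G X) = 1 := ha β _ _ h3
  have h5 : r₁ ≫ fst G X = r₂ ≫ fst G X := by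
    have := congrArg (fun k => (r₂ ≫ fst G X) * k) h4
    simpa using this
  rw [eq_lift r₁, eq_lift r₂, h5, h2]

/-- Transitivity on points. -/
theorem exists_trans {T : Over B} (r₁ r₂ : T ⟶ G ⊗ X) (h : r₁ ≫ snd G X = r₂ ≫ a.act) :
    ∃ r₃ : T ⟶ G ⊗ X, r₃ ≫ a.act = r₁ ≫ a.act ∧ r₃ ≫ snd G X = r₂ ≫ snd G X := by
  refine ⟨lift ((r₁ ≫ fst G X) * (r₂ ≫ fst G X)) (r₂ ≫ snd G X), ?_, lift_snd _ _⟩
  rw [comp_act_eq_smul, lift_fst, lift_snd, mul_smul', ← comp_act_eq_smul a r₂, ← h,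
    ← comp_act_eq_smul]

/-- The action groupoid of a free action is an equivalence relation. -/
theorem isEqvRelSp_of_free (ha : a.IsFree) : IsEqvRelSp (snd G X).left a.act.left where
  injective := by
    intro T r₁ r₂ ht hs
    have hβ : r₂ ≫ (G ⊗ X).hom = r₁ ≫ (G ⊗ X).hom :=
      calc r₂ ≫ (G ⊗ X).hom = (r₂ ≫ (snd G X).left) ≫ X.hom := by rw [Category.assoc, Over.w]
        _ = (r₁ ≫ (snd G X).left) ≫ X.hom := by rw [hs]
        _ = r₁ ≫ (G ⊗ X).hom := by rw [Category.assoc, Over.w]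
    let r₁' : Over.mk (r₁ ≫ (G ⊗ X).hom) ⟶ G ⊗ X := Over.homMk r₁ rfl
    let r₂' : Over.mk (r₁ ≫ (G ⊗ X).hom) ⟶ G ⊗ X := Over.homMk r₂ hβ
    have h := eq_of_free a ha (r₁ ≫ (G ⊗ X).hom) r₁' r₂'
      (Over.OverMorphism.ext ht) (Over.OverMorphism.ext hs)
    exact congrArg (fun k => k.left) h
  equivalence := by
    intro T
    refine ⟨fun x => ?_, ?_, ?_⟩
    · let x' : Over.mk (x ≫ X.hom) ⟶ X := Over.homMk x rfl
      refine ⟨(lift (1 : Over.mk (x ≫ X.hom) ⟶ G) x').left, ?_, ?_⟩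
      · rw [← Over.comp_left]
        change (smul a 1 x').left = x
        rw [one_smul']
        rfl
      · rw [← Over.comp_left, lift_snd]
        rfl
    · rintro x y ⟨r, hrt, hrs⟩
      let r' : Over.mk (r ≫ (G ⊗ X).hom) ⟶ G ⊗ X := Over.homMk r rfl
      refine ⟨(r' ≫ shear a).left, ?_, ?_⟩
      · rw [← Over.comp_left, Category.assoc, shear_act]
        exact hrs
      · rw [← Over.comp_left, Category.assoc, shear_snd]
        exact hrt
    · rintro x y z ⟨r₁, hr₁t, hr₁s⟩ ⟨r₂, hr₂t, hr₂s⟩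
      have hβ : r₂ ≫ (G ⊗ X).hom = r₁ ≫ (G ⊗ X).hom :=
        calc r₂ ≫ (G ⊗ X).hom = (r₂ ≫ a.act.left) ≫ X.hom := by rw [Category.assoc, Over.w]
          _ = (r₁ ≫ (snd G X).left) ≫ X.hom := by rw [hr₂t, hr₁s]
          _ = r₁ ≫ (G ⊗ X).hom := by rw [Category.assoc, Over.w]
      let r₁' : Over.mk (r₁ ≫ (G ⊗ X).hom) ⟶ G ⊗ X := Over.homMk r₁ rfl
      let r₂' : Over.mk (r₁ ≫ (G ⊗ X).hom) ⟶ G ⊗ X := Over.homMk r₂ hβ
      obtain ⟨r₃, h31, h32⟩ := exists_trans a r₁' r₂'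
        (Over.OverMorphism.ext (hr₁s.trans hr₂t.symm))
      refine ⟨r₃.left, ?_, ?_⟩
      · rw [← Over.comp_left, h31]
        exact hr₁t
      · rw [← Over.comp_left, h32]
        exact hr₂s

end Groth.Agent.H64.Boot6
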