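import Groth.Agent.S10103
import Groth.Agent.H64.Boot2.KernelPair
import Groth.Agent.H65.EtSheafSp
import Groth.Agent.H65.QuotSpFppf
import Groth.Agent.H53.SmoothSection
import Groth.Agent.H64.Psh.SmoothLoc
import Groth.Agent.H49.AlgSpPoints
import Groth.Agent.H50.LocPBase
import Mathlib.AlgebraicGeometry.Morphisms.FlatDescent
import Mathlib.RingTheory.Etale.Descent

/-!
# Étale sheaves with a smooth cover by an algebraic space are algebraic spaces
-/

set_option autoImplicit false
universe u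
open CategoryTheory CategoryTheory.Limits AlgebraicGeometry Opposite

namespace Groth.Agent.H64.Boot6

open AlgSp Groth.Agent.H65.EtSheafSp

variable {S : Scheme.{u}}

/-- The final bootstrap theorem for equivalence relations of schemes. -/
theorem finalHyp : Groth.Agent.H64.Boot2.FinalHyp S :=
  fun s t h => Groth.Agent.S10103.result S s t h

/-- Smoothness descends along fpqc coverings. -/
instance smooth_descendsAlong_fpqc :
    MorphismProperty.DescendsAlong (@Smooth.{u}) (@Surjective ⊓ @Flat ⊓ @QuasiCompact) :=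
  HasRingHomProperty.descendsAlong_flat (P := @Smooth) RingHom.Smooth.codescendsAlong_faithfullyFlat

example : MorphismProperty.DescendsAlong (@Smooth.{u})
    (@Surjective ⊓ @Flat ⊓ @LocallyOfFinitePresentation) :=
  inferInstance

/-- The kernel pair of a map to a presheaf is an equivalence relation. -/
theorem isEqvRelSp_of_kernelPair {R U : Sp S} {F : PSp S} (s t : R ⟶ U) (p : U.obj ⟶ F)
    (sq : IsPullback t.hom s.hom p p) : IsEqvRelSp s t := by
  have key : ∀ (T : Over S) (a b : (yon S).obj T ⟶ U),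
      (∃ r : (yon S).obj T ⟶ R, r ≫ t = a ∧ r ≫ s = b) ↔ a.hom ≫ p = b.hom ≫ p := by
    intro T a b
    constructor
    · rintro ⟨r, rfl, rfl⟩
      change (r.hom ≫ t.hom) ≫ p = (r.hom ≫ s.hom) ≫ p
      rw [Category.assoc, Category.assoc, sq.w]
    · intro h
      refine ⟨ObjectProperty.homMk (sq.lift _ _ h), ?_, ?_⟩
      · apply ObjectProperty.hom_ext
        exact sq.lift_fst _ _ h
      · apply ObjectProperty.hom_ext
        exact sq.lift_snd _ _ h
  refine ⟨fun T r r' h1 h2 => ?_, fun T => ⟨fun a => (key T a a).2 rfl,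
    fun h => (key T _ _).2 ((key T _ _).1 h).symm,
    fun h h' => (key T _ _).2 (((key T _ _).1 h).trans ((key T _ _).1 h'))⟩⟩
  apply ObjectProperty.hom_ext
  apply sq.hom_ext
  · exact congrArg (fun w => w.hom) h1
  · exact congrArg (fun w => w.hom) h2

/-- A smooth surjective morphism of schemes over `S` has a section over an étale covering. -/
theorem exists_etale_cover_section_of_smooth {G T : Over S} (σ : G ⟶ T) (hsm : Smooth σ.left)
    (hsurj : Surjective σ.left) :
    ∃ (T' : Over S) (e : T' ⟶ T) (τ : T' ⟶ G), Etale e.left ∧ Surjective e.left ∧ τ ≫ σ = e := by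
  have hch : ∀ t : ↥T.left, ∃ (V' : Scheme.{u}) (e : V' ⟶ T.left) (τ : V' ⟶ G.left) (v' : V'),
      Etale e ∧ τ ≫ σ.left = e ∧ e v' = t := by
    intro t
    obtain ⟨g, hg⟩ := hsurj.surj t
    obtain ⟨V', e, τ, v', he, hτ, hv⟩ := Groth.Agent.H53.exists_etale_section_of_smooth σ.left g
    exact ⟨V', e, τ, v', he, hτ, hv.trans hg⟩
  choose V' e τ v' he hτ hv using hch
  let E : (∐ V') ⟶ T.left := Sigma.desc e
  let Θ : (∐ V') ⟶ G.left := Sigma.desc τ
  have hΘ : Θ ≫ σ.left = E := by
    apply Sigma.hom_ext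
    intro t
    rw [Sigma.ι_desc_assoc, hτ, Sigma.ι_desc]
  have hE : Etale E := IsZariskiLocalAtSource.sigmaDesc (P := @Etale) he
  have hEs : Surjective E :=
    ⟨fun t => ⟨Sigma.ι V' t (v' t), by rw [← Scheme.Hom.comp_apply, Sigma.ι_desc, hv]⟩⟩
  refine ⟨Over.mk (E ≫ T.hom), Over.homMk E rfl, Over.homMk Θ ?_, hE, hEs, ?_⟩
  · change Θ ≫ G.hom = E ≫ T.hom
    rw [← hΘ, Category.assoc, Over.w]
  · ext
    exact hΘ

/-- **Core lemma**: an étale sheaf with a smooth surjective cover by a scheme, representable on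
schemes, is an algebraic space. -/
theorem isAlgSpaceP_of_smooth_cover (F : PSp S) (h1 : Presheaf.IsSheaf (Je S) F) (U : Over S)
    (p : (pyon S).obj U ⟶ F)
    (hcov : ∀ ⦃T : Over S⦄ (ξ : (pyon S).obj T ⟶ F), ∃ (G : Over S)
      (fst : (pyon S).obj G ⟶ (pyon S).obj U) (σ : G ⟶ T),
      IsPullback fst ((pyon S).map σ) p ξ ∧ Smooth σ.left ∧ Surjective σ.left) :
    IsAlgSpaceP F := by
  -- the kernel pair
  obtain ⟨R₀, fst, s, sqP, hsSm, hsS⟩ := hcov p
  obtain ⟨t, rfl⟩ := (pyon S).map_surjective fst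
  have hj : IsEqvRelSp ((yon S).map s) ((yon S).map t) :=
    isEqvRelSp_of_kernelPair ((yon S).map s) ((yon S).map t) p sqP
  have hsm' : LocP @Smooth ((yon S).map s) :=
    Groth.Agent.H50.goodClass_smooth.locP_yon_map s hsSm
  have hfl' : LocP @Flat ((yon S).map s) :=
    Groth.Agent.H50.goodClass_flat.locP_yon_map s inferInstance
  have hfp' : LocP @LocallyOfFinitePresentation ((yon S).map s) :=
    Groth.Agent.H50.goodClass_lfp.locP_yon_map s inferInstance
  -- the fppf quotient
  have sqK := Groth.Agent.H65.QuotSpFppf.isPullback_quotSpπ ((yon S).map s) ((yon S).map t) hj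
  have hepi : Epi (quotSpπ ((yon S).map s) ((yon S).map t)) :=
    inferInstanceAs (Epi (coequalizer.π ((yon S).map s) ((yon S).map t)))
  have hQ : IsAlgSpace (quotSp ((yon S).map s) ((yon S).map t)) :=
    Groth.Agent.H64.Boot2.isAlgSpace_of_epi_kernelPair finalHyp
      (quotSpπ ((yon S).map s) ((yon S).map t)) ((yon S).map t) ((yon S).map s) sqK
      (IsAlgSpace.yon_obj R₀) hfl' hfp'
  have hqSm : LocP @Smooth (quotSpπ ((yon S).map s) ((yon S).map t)) :=
    Groth.Agent.H65.QuotSpFppf.locP_quotSpπ (IsAlgSpace.yon_obj R₀) (IsAlgSpace.yon_obj U)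
      ((yon S).map s) ((yon S).map t) hj Groth.Agent.H50.goodClass_smooth hsm' hQ
  have hqS : IsSurjectiveMor (quotSpπ ((yon S).map s) ((yon S).map t)) :=
    Groth.Agent.H65.QuotSpFppf.isSurjectiveMor_of_epi _
  have hrep : ∀ {T : Over S} (ξ : (yon S).obj T ⟶ quotSp ((yon S).map s) ((yon S).map t)),
      ∃ (G : Over S) (fst : (yon S).obj G ⟶ (yon S).obj U) (σ : G ⟶ T),
        IsPullback fst ((yon S).map σ) (quotSpπ ((yon S).map s) ((yon S).map t)) ξ ∧
        Smooth σ.left ∧ Surjective σ.left := by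
    intro T ξ
    obtain ⟨G, σ, fst, sq⟩ := (hQ.representable_from_yon
      (quotSpπ ((yon S).map s) ((yon S).map t))) ξ
    refine ⟨G, fst, σ, sq, ?_, ?_⟩
    · exact AlgSp.locP_yon_map (Groth.Agent.H50.goodClass_smooth.locP_of_isPullback
        (IsAlgSpace.yon_obj U) hQ (IsAlgSpace.yon_obj T) _ _ _ _ sq hqSm)
    · exact Groth.Agent.H64.PTh.surjective_of_isSurjectiveMor_yon_map σ
        (Groth.Agent.H49.isSurjectiveMor_of_isPullback sq hqS)
  -- étale sheaves
  let Fe : Sheaf (Je S) (Type (u + 1)) := ⟨F, h1⟩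
  let Qe : Sheaf (Je S) (Type (u + 1)) := ⟨(quotSp ((yon S).map s) ((yon S).map t)).obj,
    isSheaf_Je_of_isSheaf_J (quotSp ((yon S).map s) ((yon S).map t)).property⟩
  let Ue : Sheaf (Je S) (Type (u + 1)) := ⟨(pyon S).obj U,
    isSheaf_Je_of_isSheaf_J ((yon S).obj U).property⟩
  let Re : Sheaf (Je S) (Type (u + 1)) := ⟨(pyon S).obj R₀,
    isSheaf_Je_of_isSheaf_J ((yon S).obj R₀).property⟩
  let pe : Ue ⟶ Fe := ObjectProperty.homMk p
  let ge : Ue ⟶ Qe := ObjectProperty.homMk (quotSpπ ((yon S).map s) ((yon S).map t)).hom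
  let te : Re ⟶ Ue := ObjectProperty.homMk ((pyon S).map t)
  let se : Re ⟶ Ue := ObjectProperty.homMk ((pyon S).map s)
  have kpe : IsPullback te se pe pe := by
    refine IsPullback.of_map (sheafToPresheaf (Je S) (Type (u + 1))) ?_ sqP
    apply ObjectProperty.hom_ext
    exact sqP.w
  have sqK' := sqK.map (sheafToPresheaf (J S) (Type (u + 1)))
  have kge : IsPullback te se ge ge := by
    refine IsPullback.of_map (sheafToPresheaf (Je S) (Type (u + 1))) ?_ sqK'
    apply ObjectProperty.hom_ext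
    exact sqK'.w
  have hpe : Epi pe := by
    have : Sheaf.IsLocallySurjective pe := isLocallySurjective_of_etale_lifts p (fun T ξ => by
      obtain ⟨G, fst, σ, sq, hsm, hs⟩ := hcov ξ
      obtain ⟨T', e, τ, hE, hEs, hτ⟩ := exists_etale_cover_section_of_smooth σ hsm hs
      refine ⟨T', (pyon S).map τ ≫ fst, e, ?_, hE, hEs⟩
      rw [Category.assoc, sq.w, ← Category.assoc, ← Functor.map_comp, hτ])
    exact (Sheaf.isLocallySurjective_iff_epi pe).1 this
  have hge : Epi ge := by
    have : Sheaf.IsLocallySurjective ge :=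
      isLocallySurjective_of_etale_lifts (quotSpπ ((yon S).map s) ((yon S).map t)).hom
        (fun T ξ => by
          obtain ⟨G, fst, σ, sq, hsm, hs⟩ := hrep (ObjectProperty.homMk ξ)
          obtain ⟨T', e, τ, hE, hEs, hτ⟩ := exists_etale_cover_section_of_smooth σ hsm hs
          refine ⟨T', (pyon S).map τ ≫ fst.hom, e, ?_, hE, hEs⟩
          have hw := congrArg (fun w => w.hom) sq.w
          change fst.hom ≫ (quotSpπ ((yon S).map s) ((yon S).map t)).hom =
            (pyon S).map σ ≫ ξ at hw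
          rw [Category.assoc]
          refine (congrArg (fun k => (pyon S).map τ ≫ k) hw).trans ?_
          rw [← Category.assoc, ← Functor.map_comp, hτ])
    exact (Sheaf.isLocallySurjective_iff_epi ge).1 this
  have := IsRegularEpiCategory.regularEpiOfEpi pe
  have := IsRegularEpiCategory.regularEpiOfEpi ge
  let φ : Fe ≅ Qe := IsColimit.coconePointUniqueUpToIso (IsKernelPair.toCoequalizer' kpe)
    (IsKernelPair.toCoequalizer' kge)
  have iso : F ≅ (quotSp ((yon S).map s) ((yon S).map t)).obj :=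
    (sheafToPresheaf (Je S) (Type (u + 1))).mapIso φ
  exact IsAlgSpaceP.of_iso ((isAlgSpaceP_obj_iff _).2 hQ) iso.symm

/-- An étale sheaf with a surjective smooth map from an algebraic space, representable by
algebraic spaces, is an algebraic space. -/
theorem isAlgSpaceP_of_repBySpWith_smooth_cover (F : PSp S) (h1 : Presheaf.IsSheaf (Je S) F)
    (X : Sp S) (hX : IsAlgSpace X) (p : X.obj ⟶ F)
    (h2 : RepBySpWith (IsSurjectiveMor ⊓ LocP @Smooth) p) : IsAlgSpaceP F := by
  obtain ⟨U₀, c₀, hcE, hcS⟩ := hX.atlas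
  refine isAlgSpaceP_of_smooth_cover F h1 U₀ (c₀.hom ≫ p) fun T ξ => ?_
  have sq : IsPullback (pullback.fst p ξ) (pullback.snd p ξ) p ξ := IsPullback.of_hasPullback _ _
  obtain ⟨h, hA, hQ⟩ := h2 ξ _ _ sq
  let As : Sp S := ⟨pullback p ξ, h⟩
  let fstA : As ⟶ X := ObjectProperty.homMk (pullback.fst p ξ)
  let sndA : As ⟶ (yon S).obj T := ObjectProperty.homMk (pullback.snd p ξ)
  have hA' : IsAlgSpace As := hA
  have hsurj : IsSurjectiveMor sndA := hQ.1
  have hsmA : LocP @Smooth sndA := hQ.2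
  have sq2 : IsPullback (pullback.fst c₀ fstA) (pullback.snd c₀ fstA) c₀ fstA :=
    IsPullback.of_hasPullback _ _
  have hA'' : IsAlgSpace (pullback c₀ fstA) :=
    Groth.Agent.H49.isAlgSpace_of_isPullback sq2 hX.diag (IsAlgSpace.yon_obj U₀) hA'
  have hεE : RepWith @Etale (pullback.snd c₀ fstA) :=
    MorphismProperty.of_isPullback (P := RepWith (S := S) @Etale) sq2 hcE
  have hεS : RepWith @Surjective (pullback.snd c₀ fstA) :=
    MorphismProperty.of_isPullback (P := RepWith (S := S) @Surjective) sq2 hcS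
  -- joint monicity
  have hjm : ∀ ⦃Z : Sp S⦄ (u v : Z ⟶ pullback c₀ fstA),
      u ≫ pullback.fst c₀ fstA = v ≫ pullback.fst c₀ fstA →
      u ≫ pullback.snd c₀ fstA ≫ sndA = v ≫ pullback.snd c₀ fstA ≫ sndA → u = v := by
    intro Z u v e1 e2
    refine sq2.hom_ext e1 ?_
    apply ObjectProperty.hom_ext
    apply sq.hom_ext
    · have e3 : (u ≫ pullback.snd c₀ fstA) ≫ fstA = (v ≫ pullback.snd c₀ fstA) ≫ fstA := by
        rw [Category.assoc, Category.assoc, ← sq2.w, ← Category.assoc, e1, Category.assoc]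
      exact congrArg (fun w => w.hom) e3
    · have e4 : (u ≫ pullback.snd c₀ fstA) ≫ sndA = (v ≫ pullback.snd c₀ fstA) ≫ sndA := by
        rw [Category.assoc, Category.assoc, e2]
      exact congrArg (fun w => w.hom) e4
  obtain ⟨G, ⟨e⟩⟩ := exists_iso_yon_of_jointly_mono_of_lft (pullback.fst c₀ fstA)
    (pullback.snd c₀ fstA ≫ sndA) hjm hA'' (by
      intro U₁ c₁ x hc₁ _ hx2
      have h3 : Smooth (x ≫ prod.snd).left :=
        hsmA (c₁ ≫ pullback.snd c₀ fstA) (𝟙 _) (x ≫ prod.snd)
          ((RepWith @Etale).comp_mem _ _ hc₁ hεE) (repWith_id @Etale T)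
          (by rw [Category.comp_id, Category.assoc, hx2])
      rw [Over.comp_left] at h3
      exact locallyOfFiniteType_of_comp x.left (prod.snd : U₀ ⨯ T ⟶ T).left)
  obtain ⟨σ, hσ⟩ := (yon S).map_surjective (e.hom ≫ pullback.snd c₀ fstA ≫ sndA)
  obtain ⟨lG, hlG⟩ := (yon S).map_surjective (e.hom ≫ pullback.fst c₀ fstA)
  have hE' : RepWith @Etale (e.hom ≫ pullback.snd c₀ fstA) :=
    MorphismProperty.RespectsIso.precomp _ _ _ hεE
  have hS' : RepWith @Surjective (e.hom ≫ pullback.snd c₀ fstA) :=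
    MorphismProperty.RespectsIso.precomp _ _ _ hεS
  have hcomp : (e.hom ≫ pullback.snd c₀ fstA) ≫ sndA = (yon S).map σ := by
    rw [Category.assoc, hσ]
  -- the pullback square of presheaves
  have sq2' := sq2.map (sheafToPresheaf (J S) (Type (u + 1)))
  have sqB : IsPullback (pullback.fst c₀ fstA).hom
      ((pullback.snd c₀ fstA).hom ≫ pullback.snd p ξ) (c₀.hom ≫ p) ξ := sq2'.paste_vert sq
  have sqC : IsPullback ((pyon S).map lG) ((pyon S).map σ) (c₀.hom ≫ p) ξ := by
    have h5 : (pyon S).map lG = e.hom.hom ≫ (pullback.fst c₀ fstA).hom :=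
      congrArg (fun w => w.hom) hlG
    have h6 : (pyon S).map σ = e.hom.hom ≫ (pullback.snd c₀ fstA).hom ≫ pullback.snd p ξ :=
      congrArg (fun w => w.hom) hσ
    rw [h5, h6]
    have hiso : IsIso e.hom.hom :=
      inferInstanceAs (IsIso ((sheafToPresheaf (J S) (Type (u + 1))).map e.hom))
    have sqL : IsPullback e.hom.hom
        (e.hom.hom ≫ (pullback.snd c₀ fstA).hom ≫ pullback.snd p ξ)
        ((pullback.snd c₀ fstA).hom ≫ pullback.snd p ξ) (𝟙 _) :=
      IsPullback.of_horiz_isIso ⟨by simp⟩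
    have := sqL.paste_horiz sqB
    rwa [Category.id_comp] at this
  refine ⟨G, (pyon S).map lG, σ, sqC, ?_, ?_⟩
  · exact hsmA (e.hom ≫ pullback.snd c₀ fstA) (𝟙 _) σ hE' (repWith_id @Etale T)
      (by rw [Category.comp_id, hcomp])
  · refine ⟨fun t => ?_⟩
    obtain ⟨y, hy⟩ := hsurj (Points.ofScheme T t)
    obtain ⟨u, rfl⟩ := Groth.Agent.H53.exists_ofPt_eq_of_repWith_surjective _ hS' y
    refine ⟨u, ?_⟩
    rw [Points.map_ofPt, hcomp] at hy
    have := congrArg (Points.toScheme T) hy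
    rwa [Points.toScheme_ofPt, Points.toScheme_ofScheme] at this

end Groth.Agent.H64.Boot6
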